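import Groth.Agent.GrLCLib.Baer
import Groth.Prelude.Def_Wider

/-!
*essential extensions, *injective hulls, homogeneous direct summands of *injective graded modules.
-/

set_option backward.isDefEq.respectTransparency false
set_option backward.isDefEq.respectTransparency.types false
set_option autoImplicit false
set_option linter.unusedSectionVars false
set_option linter.style.haveILetI false
universe u

open scoped Classical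
open DirectSum Groth.Agent.GrLCLib

noncomputable section

namespace Groth.Agent.GrLCHull

variable {ι : Type} [AddCommGroup ι] [DecidableEq ι]
variable {R : Type u} [CommRing R] (𝒜 : ι → AddSubgroup R) [GradedRing 𝒜]
variable {X : Type u} [AddCommGroup X] [Module R X] (𝒳 : ι → AddSubgroup X) [DirectSum.Decomposition 𝒳]

lemma homog_iff {P : Submodule R X} : P.IsHomogeneous 𝒳 ↔ Homog 𝒳 P :=
  ⟨fun h x hx g => h g hx, fun h i x hx => h x hx i⟩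

lemma eq_bot_of_homog {P : Submodule R X} (hP : Homog 𝒳 P) (h : ∀ g, ∀ x ∈ 𝒳 g, x ∈ P → x = 0) : P = ⊥ := by
  refine (Submodule.eq_bot_iff P).2 fun x hx => ?_
  rw [← sum_pr 𝒳 x]
  exact Finset.sum_eq_zero fun g _ => h g _ (pr_mem 𝒳 g x) (hP x hx g)

lemma homog_sup {P Q : Submodule R X} (hP : Homog 𝒳 P) (hQ : Homog 𝒳 Q) : Homog 𝒳 (P ⊔ Q) := fun x hx g => by
  obtain ⟨p, hp, q, hq, rfl⟩ := Submodule.mem_sup.1 hx
  rw [map_add]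
  exact Submodule.add_mem_sup (hP p hp g) (hQ q hq g)

lemma homog_inf {P Q : Submodule R X} (hP : Homog 𝒳 P) (hQ : Homog 𝒳 Q) : Homog 𝒳 (P ⊓ Q) := fun x hx g =>
  ⟨hP x hx.1 g, hQ x hx.2 g⟩

variable [SetLike.GradedSMul 𝒜 𝒳]

include 𝒜 in
lemma homog_span_singleton {g : ι} {x : X} (hx : x ∈ 𝒳 g) : Homog 𝒳 (Submodule.span R {x}) := fun y hy h => by
  obtain ⟨c, rfl⟩ := Submodule.mem_span_singleton.1 hy
  rw [pr_smul_left 𝒜 𝒳 hx]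
  exact Submodule.mem_span_singleton.2 ⟨_, rfl⟩

/-- A nonzero multiple of a homogeneous element in a homogeneous submodule can be taken homogeneous. -/
lemma exists_homog_smul {K : Submodule R X} (hK : Homog 𝒳 K) {g : ι} {x : X} (hx : x ∈ 𝒳 g) {r : R}
    (hr : r • x ∈ K) (hr0 : r • x ≠ 0) : ∃ d, ∃ s ∈ 𝒜 d, s • x ∈ K ∧ s • x ≠ 0 := by
  by_contra hne
  push Not at hne
  refine hr0 ?_
  rw [← sum_pr 𝒳 (r • x)]
  refine Finset.sum_eq_zero fun h _ => ?_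
  have h1 := hK _ hr h
  rw [pr_smul_left 𝒜 𝒳 hx] at h1 ⊢
  exact hne _ _ (pr_mem 𝒜 _ r) h1

/-- Every homogeneous element of `E` has a nonzero homogeneous multiple in `K`. -/
def EssOn (K E : Submodule R X) : Prop :=
  ∀ g, ∀ x ∈ 𝒳 g, x ∈ E → x ≠ 0 → ∃ d, ∃ s ∈ 𝒜 d, s • x ∈ K ∧ s • x ≠ 0

lemma essOn_refl (K : Submodule R X) : EssOn 𝒜 𝒳 K K := fun _ x _ hx hx0 =>
  ⟨0, 1, SetLike.one_mem_graded 𝒜, by rwa [one_smul], by rwa [one_smul]⟩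

lemma essOn_trans {K L E : Submodule R X} (h₁ : EssOn 𝒜 𝒳 K L) (h₂ : EssOn 𝒜 𝒳 L E) : EssOn 𝒜 𝒳 K E := by
  intro g x hx hxE hx0
  obtain ⟨d, s, hs, hsL, hs0⟩ := h₂ g x hx hxE hx0
  obtain ⟨d', t, ht, htK, ht0⟩ := h₁ (d + g) _ (smul_mem 𝒜 𝒳 hs hx) hsL hs0
  exact ⟨d' + d, t * s, SetLike.mul_mem_graded ht hs, by rwa [mul_smul], by rwa [mul_smul]⟩

lemma inf_ne_bot_of_essOn {K E P : Submodule R X} (h : EssOn 𝒜 𝒳 K E) (hP : Homog 𝒳 P) (hPE : P ≤ E)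
    (hP0 : P ≠ ⊥) : P ⊓ K ≠ ⊥ := by
  intro hbot
  refine hP0 (eq_bot_of_homog 𝒳 hP fun g x hx hxP => ?_)
  by_contra hx0
  obtain ⟨d, s, -, hsK, hs0⟩ := h g x hx (hPE hxP) hx0
  exact hs0 ((Submodule.eq_bot_iff _).1 hbot _ ⟨P.smul_mem _ hxP, hsK⟩)

variable {M : Type u} [AddCommGroup M] [Module R M] {ℳ : ι → AddSubgroup M}

theorem essOn_of_isStarEss {f : M →ₗ[R] X} (hf : GrLC.IsStarEss ℳ 𝒳 f) (hK : Homog 𝒳 (LinearMap.range f)) :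
    EssOn 𝒜 𝒳 (LinearMap.range f) ⊤ := by
  intro g x hx _ hx0
  have h0 : Submodule.span R {x} ≠ ⊥ := by simpa using hx0
  obtain ⟨y, hy, hy0⟩ := Submodule.exists_mem_ne_zero_of_ne_bot
    (hf.essential _ ((homog_iff 𝒳).2 (homog_span_singleton 𝒜 𝒳 hx)) h0)
  obtain ⟨c, rfl⟩ := Submodule.mem_span_singleton.1 hy.1
  exact exists_homog_smul 𝒜 𝒳 hK hx hy.2 hy0

theorem isStarEss_of_essOn {f : M →ₗ[R] X} (hinj : Function.Injective f) (hgr : GrLC.IsGrHom ℳ 𝒳 f)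
    (h : EssOn 𝒜 𝒳 (LinearMap.range f) ⊤) : GrLC.IsStarEss ℳ 𝒳 f :=
  ⟨hinj, hgr, fun _ hP hP0 => inf_ne_bot_of_essOn 𝒜 𝒳 h ((homog_iff 𝒳).1 hP) le_top hP0⟩

/-- A homogeneous map injective on a *essential submodule is injective. -/
lemma ker_eq_bot_of_isStarEss {Y : Type u} [AddCommGroup Y] [Module R Y] {𝒴 : ι → AddSubgroup Y}
    [DirectSum.Decomposition 𝒴] {f : M →ₗ[R] X} (hf : GrLC.IsStarEss ℳ 𝒳 f) {h : X →ₗ[R] Y}
    (hh : GrLC.IsGrHom 𝒳 𝒴 h) (hinj : Function.Injective (h ∘ₗ f)) : LinearMap.ker h = ⊥ := by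
  by_contra h0
  refine hf.essential _ ((homog_iff 𝒳).2 (homog_ker 𝒳 𝒴 hh)) h0 ((Submodule.eq_bot_iff _).2 ?_)
  rintro _ ⟨hx, m, rfl⟩
  rw [show m = 0 from hinj (by simpa using hx), map_zero]

lemma exists_maximal_essOn (K : Submodule R X) (hK : Homog 𝒳 K) :
    ∃ E, K ≤ E ∧ Homog 𝒳 E ∧ EssOn 𝒜 𝒳 K E ∧
      ∀ E', Homog 𝒳 E' → E ≤ E' → EssOn 𝒜 𝒳 K E' → E' ≤ E := by
  obtain ⟨E, hKE, hE⟩ := zorn_le_nonempty₀ {E : Submodule R X | K ≤ E ∧ Homog 𝒳 E ∧ EssOn 𝒜 𝒳 K E}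
    (fun c hcs hc y hy => by
      refine ⟨sSup c, ⟨(hcs hy).1.trans (le_sSup hy), fun x hx g => ?_, fun g x hx hxE hx0 => ?_⟩, fun z hz => le_sSup hz⟩
      · rw [Submodule.mem_sSup_of_directed ⟨y, hy⟩ hc.directedOn] at hx ⊢
        obtain ⟨p, hp, hxp⟩ := hx
        exact ⟨p, hp, (hcs hp).2.1 x hxp g⟩
      · rw [Submodule.mem_sSup_of_directed ⟨y, hy⟩ hc.directedOn] at hxE
        obtain ⟨p, hp, hxp⟩ := hxE
        exact (hcs hp).2.2 g x hx hxp hx0) K ⟨le_rfl, hK, essOn_refl 𝒜 𝒳 K⟩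
  exact ⟨E, hE.1.1, hE.1.2.1, hE.1.2.2, fun E' h1 h2 h3 => hE.2 ⟨hKE.trans h2, h1, h3⟩ h2⟩

lemma exists_maximal_disjoint (E : Submodule R X) :
    ∃ C, Homog 𝒳 C ∧ C ⊓ E = ⊥ ∧ ∀ C', Homog 𝒳 C' → C ≤ C' → C' ⊓ E = ⊥ → C' ≤ C := by
  obtain ⟨C, -, hC⟩ := zorn_le_nonempty₀ {C : Submodule R X | Homog 𝒳 C ∧ C ⊓ E = ⊥}
    (fun c hcs hc y hy => by
      refine ⟨sSup c, ⟨fun x hx g => ?_, (Submodule.eq_bot_iff _).2 fun x hx => ?_⟩, fun z hz => le_sSup hz⟩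
      · rw [Submodule.mem_sSup_of_directed ⟨y, hy⟩ hc.directedOn] at hx ⊢
        obtain ⟨p, hp, hxp⟩ := hx
        exact ⟨p, hp, (hcs hp).1 x hxp g⟩
      · obtain ⟨hx1, hx2⟩ := hx
        obtain ⟨p, hp, hxp⟩ := (Submodule.mem_sSup_of_directed ⟨y, hy⟩ hc.directedOn).1 hx1
        exact (Submodule.eq_bot_iff _).1 (hcs hp).2 x ⟨hxp, hx2⟩) ⊥
    ⟨fun x hx g => by rw [(Submodule.mem_bot R).1 hx, map_zero]; exact Submodule.zero_mem _, bot_inf_eq E⟩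
  exact ⟨C, hC.1.1, hC.1.2, fun C' h1 h2 h3 => hC.2 ⟨h1, h3⟩ h2⟩

/-- A maximal *essential extension inside a *injective module is a homogeneous direct summand. -/
theorem exists_isCompl (hX : GrLC.IsStarInj 𝒜 𝒳) {K : Submodule R X} (hK : Homog 𝒳 K) :
    ∃ E C, K ≤ E ∧ Homog 𝒳 E ∧ Homog 𝒳 C ∧ IsCompl E C ∧ EssOn 𝒜 𝒳 K E := by
  obtain ⟨E, hKE, hE, hess, hmax⟩ := exists_maximal_essOn 𝒜 𝒳 K hK
  obtain ⟨C, hC, hCE, hCmax⟩ := exists_maximal_disjoint 𝒳 E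
  refine ⟨E, C, hKE, hE, hC, ?_, hess⟩
  let f : (subObj 𝒜 𝒳 E hE).carrier →ₗ[R] (quotObj 𝒜 𝒳 C hC).carrier := C.mkQ ∘ₗ E.subtype
  have hfz : ∀ e : E, C.mkQ (e : X) = 0 → e = 0 := fun e he =>
    Subtype.ext ((Submodule.eq_bot_iff _).1 hCE _ ⟨(Submodule.Quotient.mk_eq_zero C).1 he, e.2⟩)
  have hfinj : Function.Injective f := by
    rw [injective_iff_map_eq_zero]
    exact fun e he => hfz e he
  obtain ⟨θ, hθ, hθf⟩ := hX (subObj 𝒜 𝒳 E hE) (quotObj 𝒜 𝒳 C hC) f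
    (fun g e he => ⟨_, he, rfl⟩) hfinj E.subtype (fun g e he => he)
  let θ' : (X ⧸ C) →ₗ[R] X := θ
  have hθe : ∀ e : E, θ' (C.mkQ (e : X)) = e := fun e => LinearMap.congr_fun hθf e
  have hsmall : ∀ g, ∀ x ∈ 𝒳 g, x ∉ C → ∃ r : R, ∃ e ∈ E, e ≠ 0 ∧ C.mkQ (r • x) = C.mkQ e := by
    intro g x hx hxC
    have hne : (C ⊔ Submodule.span R {x}) ⊓ E ≠ ⊥ := fun h =>
      hxC (hCmax _ (homog_sup 𝒳 hC (homog_span_singleton 𝒜 𝒳 hx)) le_sup_left h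
        (Submodule.mem_sup_right (Submodule.mem_span_singleton_self x)))
    obtain ⟨e, ⟨he1, he2⟩, he0⟩ := Submodule.exists_mem_ne_zero_of_ne_bot hne
    obtain ⟨c, hc, z, hz, rfl⟩ := Submodule.mem_sup.1 he1
    obtain ⟨r, rfl⟩ := Submodule.mem_span_singleton.1 hz
    refine ⟨r, _, he2, he0, ?_⟩
    rw [map_add, show C.mkQ c = 0 from (Submodule.Quotient.mk_eq_zero C).2 hc, zero_add]
  have hθinj : Function.Injective θ' := by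
    rw [← LinearMap.ker_eq_bot]
    refine (Submodule.eq_bot_iff _).2 fun z hz => ?_
    obtain ⟨x, rfl⟩ := C.mkQ_surjective z
    refine (Submodule.Quotient.mk_eq_zero C).2 (mem_of_pr_mem 𝒳 fun g => ?_)
    by_contra hxC
    obtain ⟨r, e, he, he0, hre⟩ := hsmall g _ (pr_mem 𝒳 g x) hxC
    refine he0 ?_
    have h2 : θ' (C.mkQ (pr 𝒳 g x)) = 0 := by
      have h3 := homog_ker (quotObj 𝒜 𝒳 C hC).gr 𝒳 hθ _ hz g
      rwa [show pr (quotObj 𝒜 𝒳 C hC).gr g (C.mkQ x) = C.mkQ (pr 𝒳 g x) from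
        pr_map (N := (quotObj 𝒜 𝒳 C hC).carrier) 𝒳 (quotObj 𝒜 𝒳 C hC).gr (f := C.mkQ)
          (mkQ_grHom 𝒳 C) g x] at h3
    have h4 := congrArg θ' hre
    rw [map_smul, map_smul, h2, smul_zero, hθe ⟨e, he⟩] at h4
    exact h4.symm
  have hrange : LinearMap.range θ' = E := by
    have hEle : E ≤ LinearMap.range θ' := fun e he => ⟨_, hθe ⟨e, he⟩⟩
    refine le_antisymm (hmax _ (homog_range (quotObj 𝒜 𝒳 C hC).gr 𝒳 hθ) hEle ?_) hEle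
    refine essOn_trans 𝒜 𝒳 hess fun g x hx hxr hx0 => ?_
    obtain ⟨z, hz, rfl⟩ := exists_preimage (quotObj 𝒜 𝒳 C hC).gr 𝒳 hθ hx hxr
    obtain ⟨x', hx', rfl⟩ := hz
    have hxC : x' ∉ C := fun h => hx0 (by
      show θ' (C.mkQ x') = 0
      rw [show C.mkQ x' = 0 from (Submodule.Quotient.mk_eq_zero C).2 h, map_zero])
    obtain ⟨r, e, he, he0, hre⟩ := hsmall g x' hx' hxC
    have h5 : r • θ' (C.mkQ x') = e := by rw [← map_smul, ← map_smul, hre, hθe ⟨e, he⟩]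
    exact exists_homog_smul 𝒜 𝒳 hE hx (r := r) (h5.symm ▸ he) (h5.symm ▸ he0)
  refine IsCompl.of_eq (by rw [inf_comm]; exact hCE) (eq_top_iff.2 fun x _ => ?_)
  have h1 : θ' (C.mkQ x) ∈ E := hrange ▸ LinearMap.mem_range_self θ' _
  have h2 : C.mkQ x = C.mkQ (θ' (C.mkQ x)) := hθinj (hθe ⟨_, h1⟩).symm
  refine Submodule.mem_sup.2 ⟨_, h1, x - θ' (C.mkQ x), (Submodule.Quotient.eq C).1 h2, by abel⟩

end Groth.Agent.GrLCHull
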