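import Groth.Agent.GrLCHull.Hull

/-!
Annihilators of homogeneous elements: a maximal one is prime (torsion-free finitely generated grading group).
-/

set_option backward.isDefEq.respectTransparency false
set_option backward.isDefEq.respectTransparency.types false
set_option autoImplicit false
set_option linter.unusedSectionVars false
set_option linter.style.haveILetI false
universe u

open DirectSum Groth.Agent.GrLCLib

noncomputable section

namespace Groth.Agent.GrLCHull

variable (ι : Type) [AddCommGroup ι]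

/-- A finitely generated free group has a compatible linear order. -/
lemma exists_linearOrder [Module.Free ℤ ι] [Module.Finite ℤ ι] :
    ∃ L : LinearOrder ι, @IsOrderedCancelAddMonoid ι _ L.toPartialOrder.toPreorder := by
  classical
  let b := Module.Free.chooseBasis ℤ ι
  obtain ⟨n, ⟨e⟩⟩ : ∃ n, Nonempty (ι ≃+ (Fin n → ℤ)) :=
    ⟨_, ⟨((b.reindex (Fintype.equivFin _)).equivFun).toAddEquiv⟩⟩
  let e' : ι → Lex (Fin n → ℤ) := fun x => toLex (e x)
  letI L : LinearOrder ι := LinearOrder.lift' e' (toLex.injective.comp e.injective)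
  refine ⟨L, ?_⟩
  exact { add_le_add_left := fun a b h c => by
            show e' _ ≤ e' _
            have : e' a ≤ e' b := h
            simpa [e', map_add] using this,
          le_of_add_le_add_left := fun a b c h => by
            show e' _ ≤ e' _
            have : e' (a + b) ≤ e' (a + c) := h
            simpa [e', map_add] using this }

variable {ι}

/-- Primality of a homogeneous ideal is tested on homogeneous elements. -/
lemma isPrime_of_homogeneous [D : DecidableEq ι] [Module.Free ℤ ι] [Module.Finite ℤ ι] {R : Type u} [CommRing R]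
    (𝒜 : ι → AddSubgroup R) [GradedRing 𝒜] {I : Ideal R} (hI : I.IsHomogeneous 𝒜) (hne : I ≠ ⊤)
    (h : ∀ {a b : R}, SetLike.IsHomogeneousElem 𝒜 a → SetLike.IsHomogeneousElem 𝒜 b → a * b ∈ I → a ∈ I ∨ b ∈ I) :
    I.IsPrime := by
  obtain ⟨L, hL⟩ := exists_linearOrder ι
  obtain rfl : D = L.toDecidableEq := Subsingleton.elim _ _
  exact hI.isPrime_of_homogeneous_mem_or_mem hne h

variable [DecidableEq ι] [Module.Free ℤ ι] [Module.Finite ℤ ι]
variable {R : Type u} [CommRing R] (𝒜 : ι → AddSubgroup R) [GradedRing 𝒜]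
variable {X : Type u} [AddCommGroup X] [Module R X] (𝒳 : ι → AddSubgroup X) [DirectSum.Decomposition 𝒳]
  [SetLike.GradedSMul 𝒜 𝒳]

lemma homog_annihilator {g : ι} {x : X} (hx : x ∈ 𝒳 g) :
    (Submodule.span R {x}).annihilator.IsHomogeneous 𝒜 := fun i r hr => by
  rw [Submodule.mem_annihilator_span_singleton] at hr ⊢
  have h1 := pr_smul_left 𝒜 𝒳 hx (i + g) r
  rw [hr, map_zero, add_sub_cancel_right] at h1
  exact h1.symm

/-- There is a homogeneous element with prime annihilator. -/
theorem exists_prime_annihilator [IsNoetherianRing R] [Nontrivial X] :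
    ∃ (g : ι) (x : X) (q : HomogeneousIdeal 𝒜),
      x ∈ 𝒳 g ∧ x ≠ 0 ∧ q.toIdeal.IsPrime ∧ (Submodule.span R {x}).annihilator = q.toIdeal := by
  classical
  let S : Set (Ideal R) := {J | ∃ g, ∃ x ∈ 𝒳 g, x ≠ 0 ∧ J = (Submodule.span R {x}).annihilator}
  have hS : S.Nonempty := by
    obtain ⟨y, hy⟩ := exists_ne (0 : X)
    by_contra hS
    refine hy ?_
    rw [← sum_pr 𝒳 y]
    refine Finset.sum_eq_zero fun g _ => ?_
    by_contra h0
    exact hS ⟨_, g, _, pr_mem 𝒳 g y, h0, rfl⟩
  obtain ⟨J, ⟨g, x, hx, hx0, rfl⟩, hmax⟩ := set_has_maximal_iff_noetherian.2 inferInstance S hS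
  have hH := homog_annihilator 𝒜 𝒳 hx
  have hH' : ((Submodule.span R {x}).annihilator : Ideal R) ≠ ⊤ := fun h =>
    hx0 (by simpa using (Submodule.mem_annihilator_span_singleton x (1 : R)).1 (h.symm ▸ Submodule.mem_top))
  refine ⟨g, x, ⟨_, hH⟩, hx, hx0, isPrime_of_homogeneous 𝒜 hH hH' ?_, rfl⟩
  · rintro a b ⟨i, ha⟩ ⟨j, hb⟩ hab
    by_cases hbx : b • x = 0
    · exact Or.inr ((Submodule.mem_annihilator_span_singleton x b).2 hbx)
    · refine Or.inl ?_
      by_contra hna
      refine hmax _ ⟨j + g, _, smul_mem 𝒜 𝒳 hb hx, hbx, rfl⟩ (lt_of_le_of_ne (fun r hr => ?_) fun h => hna (h.ge ?_))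
      · rw [Submodule.mem_annihilator_span_singleton] at hr ⊢
        rw [smul_comm, hr, smul_zero]
      · rw [Submodule.mem_annihilator_span_singleton, ← mul_smul]
        exact (Submodule.mem_annihilator_span_singleton x _).1 hab

end Groth.Agent.GrLCHull
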