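import Groth.Agent.GrLCHull.Basic

/-!
*injective hulls as homogeneous summands; *essential implies essential.
-/

set_option backward.isDefEq.respectTransparency false
set_option backward.isDefEq.respectTransparency.types false
set_option autoImplicit false
set_option linter.unusedSectionVars false
set_option linter.style.haveILetI false
universe u

open scoped Classical
open DirectSum Groth.Agent.GrLCLib

noncomputable section

namespace Groth.Agent.GrLCHull

variable {ι : Type} [AddCommGroup ι] [DecidableEq ι]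
variable {R : Type u} [CommRing R] (𝒜 : ι → AddSubgroup R) [GradedRing 𝒜]
variable {X : Type u} [AddCommGroup X] [Module R X] (𝒳 : ι → AddSubgroup X) [DirectSum.Decomposition 𝒳]
  [SetLike.GradedSMul 𝒜 𝒳]

/-- A homogeneous direct summand of a *injective module is *injective. -/
lemma isStarInj_summand (hX : GrLC.IsStarInj 𝒜 𝒳) {E C : Submodule R X} (hE : Homog 𝒳 E) (hC : Homog 𝒳 C)
    (h : IsCompl E C) : GrLC.IsStarInj 𝒜 (subObj 𝒜 𝒳 E hE).gr := by
  intro A B f hf hinj g hg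
  obtain ⟨k, hk, hkf⟩ := hX A B f hf hinj ((E.subtype : (subObj 𝒜 𝒳 E hE).carrier →ₗ[R] X) ∘ₗ g) (fun i a ha => hg i a ha)
  let P : X →ₗ[R] E := E.projectionOnto C h
  refine ⟨P ∘ₗ k, fun i b hb => ?_, LinearMap.ext fun a => ?_⟩
  · show ((P (k b) : E) : X) ∈ 𝒳 i
    have h1 : (P (k b) : X) + (k b - (P (k b) : X)) = k b := by abel
    have h2 : k b - (P (k b) : X) ∈ C := by
      rw [← Submodule.projectionOnto_apply_eq_zero_iff h, map_sub, Submodule.projectionOnto_apply_left h, sub_self]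
    have h3 := congrArg (pr 𝒳 i) h1
    rw [map_add, pr_of_mem 𝒳 (hk i b hb)] at h3
    have h4 : P (k b) = ⟨pr 𝒳 i (P (k b) : X), hE _ (P (k b)).2 i⟩ := by
      conv_lhs => rw [← h3, map_add]
      rw [Submodule.projectionOnto_apply_left h ⟨_, hE _ (P (k b)).2 i⟩,
        (Submodule.projectionOnto_apply_eq_zero_iff h).2 (hC _ h2 i), add_zero]
    rw [congrArg Subtype.val h4]
    exact pr_mem 𝒳 i _
  · show P (k (f a)) = g a
    rw [show k (f a) = E.subtype (g a) from LinearMap.congr_fun hkf a]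
    exact Submodule.projectionOnto_apply_left h _

variable {M : Type u} [AddCommGroup M] [Module R M]

/-- An embedding into a *injective module factors through a *injective hull which is a homogeneous summand. -/
theorem exists_hull_summand (hX : GrLC.IsStarInj 𝒜 𝒳) (ℳ : ι → AddSubgroup M) {f : M →ₗ[R] X}
    (hinj : Function.Injective f) (hgr : GrLC.IsGrHom ℳ 𝒳 f) (hK : Homog 𝒳 (LinearMap.range f)) :
    ∃ (Y : GrLC.GMod.{u} 𝒜) (f' : M →ₗ[R] Y.carrier) (ψ : Y.carrier →ₗ[R] X) (Q : Submodule R X),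
      GrLC.IsStarInjHull 𝒜 ℳ Y.gr f' ∧ Function.Injective ψ ∧ GrLC.IsGrHom Y.gr 𝒳 ψ ∧ ψ ∘ₗ f' = f ∧
        Homog 𝒳 Q ∧ IsCompl (LinearMap.range ψ) Q := by
  obtain ⟨E, C, hKE, hE, hC, hcompl, hess⟩ := exists_isCompl 𝒜 𝒳 hX hK
  let f' : M →ₗ[R] E := f.codRestrict E fun m => hKE ⟨m, rfl⟩
  let Y := subObj 𝒜 𝒳 E hE
  have hg' : GrLC.IsGrHom ℳ Y.gr f' := fun g m hm => hgr g m hm
  have hinj' : Function.Injective f' := fun a b h => hinj (congrArg Subtype.val h)
  refine ⟨Y, f', E.subtype, C, ⟨isStarEss_of_essOn 𝒜 Y.gr (f := f') hinj' hg' ?_,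
    isStarInj_summand 𝒜 𝒳 hX hE hC hcompl⟩, E.injective_subtype, fun g y hy => hy, LinearMap.ext fun _ => rfl, hC,
    by rwa [Submodule.range_subtype]⟩
  intro g y hy _ hy0
  obtain ⟨d, s, hs, ⟨m, hm⟩, hs0⟩ := hess g (y : E).1 hy (y : E).2 (fun h => hy0 (Subtype.ext h))
  exact ⟨d, s, hs, ⟨m, Subtype.ext hm⟩, fun h => hs0 (congrArg (fun z : E => (z : X)) h)⟩

/-- *injective hulls exist. -/
theorem exists_hull (ℳ : ι → AddSubgroup M) [DirectSum.Decomposition ℳ] [SetLike.GradedSMul 𝒜 ℳ] :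
    ∃ (Y : GrLC.GMod.{u} 𝒜) (f : M →ₗ[R] Y.carrier), GrLC.IsStarInjHull 𝒜 ℳ Y.gr f := by
  obtain ⟨Z, ε, hZ, hε, hinj⟩ := exists_embedding 𝒜 ℳ
  obtain ⟨Y, f, -, -, hf, -⟩ := exists_hull_summand 𝒜 Z.gr hZ ℳ hinj hε (homog_range ℳ Z.gr hε)
  exact ⟨Y, f, hf⟩

include 𝒜 in
/-- A *essential extension is essential. -/
theorem isEssentialInj {ℳ : ι → AddSubgroup M} [DirectSum.Decomposition ℳ] {f : M →ₗ[R] X}
    (hf : GrLC.IsStarEss ℳ 𝒳 f) : InjHull.IsEssentialInj f := by
  refine ⟨hf.injective, fun N hN hbot => ?_⟩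
  have hK : Homog 𝒳 (LinearMap.range f) := homog_range ℳ 𝒳 hf.grHom
  have hess := essOn_of_isStarEss 𝒜 𝒳 hf hK
  obtain ⟨x, hxN, hx0⟩ := Submodule.exists_mem_ne_zero_of_ne_bot hN
  have key : ∀ S : Finset ι, ∃ d, ∃ r ∈ 𝒜 d, r • x ≠ 0 ∧ ∀ g ∈ S, r • pr 𝒳 g x ∈ LinearMap.range f := by
    intro S
    induction S using Finset.induction with
    | empty => exact ⟨0, 1, SetLike.one_mem_graded 𝒜, by rwa [one_smul], by simp⟩
    | @insert h S _ ih =>
      obtain ⟨d, r, hr, hrx, hS⟩ := ih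
      by_cases h0 : r • pr 𝒳 h x = 0
      · refine ⟨d, r, hr, hrx, fun g hg => ?_⟩
        rcases Finset.mem_insert.1 hg with rfl | hg
        · rw [h0]; exact Submodule.zero_mem _
        · exact hS g hg
      · obtain ⟨d', s, hs, hsK, hs0⟩ :=
          hess _ _ (smul_mem 𝒜 𝒳 hr (pr_mem 𝒳 h x)) Submodule.mem_top h0
        refine ⟨d' + d, s * r, SetLike.mul_mem_graded hs hr, fun hx' => hs0 ?_, fun g hg => ?_⟩
        · have h1 := congrArg (pr 𝒳 (d' + d + h)) hx'
          rw [map_zero, pr_smul 𝒜 𝒳 (SetLike.mul_mem_graded hs hr), add_sub_cancel_left, mul_smul] at h1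
          exact h1
        · rcases Finset.mem_insert.1 hg with rfl | hg
          · rwa [mul_smul]
          · rw [mul_smul]; exact Submodule.smul_mem _ _ (hS g hg)
  obtain ⟨d, r, -, hrx, hr⟩ := key (DirectSum.decompose 𝒳 x).support
  have h1 : r • x ∈ LinearMap.range f := by
    conv => arg 2; rw [← sum_pr 𝒳 x, Finset.smul_sum]
    exact Submodule.sum_mem _ hr
  exact hrx ((Submodule.eq_bot_iff _).1 hbot _ ⟨N.smul_mem r hxN, h1⟩)

omit [SetLike.GradedSMul 𝒜 𝒳] in
/-- The `R`-linear map onto the span of a homogeneous element with prescribed annihilator. -/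
lemma exists_cyclicMap {q : Ideal R} {m : X} (hann : ∀ r : R, r • m = 0 ↔ r ∈ q) :
    ∃ F : (R ⧸ q) →ₗ[R] X, Function.Injective F ∧ LinearMap.range F = Submodule.span R {m} ∧
      ∀ r : R, F (Ideal.Quotient.mk q r) = r • m := by
  refine ⟨Submodule.liftQ q (LinearMap.toSpanSingleton R X m) fun r hr => ?_, ?_, ?_, fun r => rfl⟩
  · simpa using (hann r).2 hr
  · rw [← LinearMap.ker_eq_bot, Submodule.ker_liftQ, Submodule.eq_bot_iff]
    rintro _ ⟨r, hr, rfl⟩
    exact (Submodule.Quotient.mk_eq_zero q).2 ((hann r).1 (by simpa using hr))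
  · rw [Submodule.range_liftQ, ← LinearMap.span_singleton_eq_range]

end Groth.Agent.GrLCHull
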